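import Groth.Agent.Lib.DualCx22.LocalUnique
import Groth.Agent.Lib.DualCx22.ResidueInjDim
import Groth.Agent.Lib.DualRing.Single
import Groth.Agent.Lib.DCxRing.Stupid

/-!
# Detecting vanishing with the residue field
-/

set_option autoImplicit false
set_option linter.style.haveILetI false

universe u

open CategoryTheory CategoryTheory.Limits CategoryTheory.Pretriangulated DerivedCategory

attribute [local instance] HasDerivedCategory.standard

namespace GrothLib.PointSky29

variable {A : Type u} [CommRing A] [IsLocalRing A] [IsNoetherianRing A]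

local notation "κ" => IsLocalRing.ResidueField A

theorem isLE_iff_residue (R : Dual.D A) (hfin : ∀ i, Module.Finite A (Dual.HD A R i)) (c : ℤ) [R.IsLE c] (b : ℤ) :
    (∀ i : ℤ, b < i → IsZero ((homologyFunctor (ModuleCat.{u} A) i).obj R)) ↔
      ∀ i : ℤ, b < i → Subsingleton (R ⟶ (Dual.inD A κ)⟦-i⟧) := by
  refine ⟨fun h i hi => ⟨fun φ ψ => ?_⟩, fun h => ?_⟩
  · haveI hR : TStructure.t.IsLE R b := (DerivedCategory.isLE_iff R b).2 h
    haveI : TStructure.t.IsGE (Dual.inD A κ) 0 := inferInstanceAs (DerivedCategory.IsGE _ 0)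
    have hK : TStructure.t.IsGE ((Dual.inD A κ)⟦-i⟧) i := TStructure.t.isGE_shift _ 0 (-i) i (by omega)
    exact (TStructure.t.zero_of_isLE_of_isGE φ b i hi hR hK).trans
      (TStructure.t.zero_of_isLE_of_isGE ψ b i hi hR hK).symm
  · have hm : ∀ m : ℕ, R.IsLE (max b (c - m)) := by
      intro m
      induction m with
      | zero => exact TStructure.t.isLE_of_le R c _ (by omega)
      | succ m ih =>
        rcases le_or_gt (c - m) b with h' | h'
        · rw [show max b (c - (m + 1 : ℕ)) = max b (c - m) by omega]
          exact ih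
        · rw [show max b (c - (m + 1 : ℕ)) = max b (c - m) - 1 by omega]
          haveI := ih
          rw [DerivedCategory.isLE_iff]
          intro j hj
          by_cases hjs : j = max b (c - m)
          · subst hjs
            refine (GrothLib.DR.subsingleton_iff_isZero _).1 ?_
            rw [← not_nontrivial_iff_subsingleton]
            intro hn
            haveI := hfin (max b (c - m))
            obtain ⟨φ, x, hx⟩ := DualCx22.exists_hom_residue (A := A) (Dual.HD A R (max b (c - m)))
            obtain ⟨e⟩ := DualCx22.nonempty_hom_top R (max b (c - m))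
            haveI := h (max b (c - m)) (by omega)
            haveI := (Linear.homCongr A (Iso.refl R)
              (GrothLib.DR.singleIsoShift (max b (c - m)) (ModuleCat.of A κ))).toEquiv.subsingleton
            haveI := e.symm.toEquiv.subsingleton
            exact one_ne_zero (hx.symm.trans (LinearMap.congr_fun (Subsingleton.elim φ 0) x))
          · exact DerivedCategory.isZero_of_isLE R (max b (c - m)) j (by omega)
    intro i hi
    haveI := hm (c - b).toNat
    exact DerivedCategory.isZero_of_isLE R (max b (c - (c - b).toNat)) i (by omega)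

theorem isZero_of_hom_residue (R : Dual.D A) (hfin : ∀ i, Module.Finite A (Dual.HD A R i)) (a : ℤ) [R.IsGE a]
    (h : ∀ i : ℤ, Subsingleton (Dual.inD A κ ⟶ R⟦i⟧)) (i : ℤ) : IsZero ((homologyFunctor (ModuleCat.{u} A) i).obj R) := by
  refine (GrothLib.DR.subsingleton_iff_isZero _).1 ?_
  obtain ⟨n, hn⟩ : ∃ n : ℕ, Module.supportDim A A ≤ (n : WithBot ℕ∞) := by
    rw [Module.supportDim_self_eq_ringKrullDim]
    have : FiniteRingKrullDim A := inferInstance
    refine ⟨(ringKrullDim A).unbotD 0 |>.toNat, ?_⟩
    have h0 := ringKrullDim_ne_top (R := A)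
    have h1 := ringKrullDim_ne_bot (R := A)
    obtain ⟨k, hk⟩ := WithBot.ne_bot_iff_exists.1 h1
    rw [← hk] at h0 ⊢
    lift k to ℕ using fun hk' => h0 (by rw [hk']; rfl)
    simp
  haveI : Subsingleton (Dual.inD A A ⟶ R⟦i⟧) :=
    DualCx22.subsingleton_hom_of_residue R hfin a (i - 1) (fun j _ => h j) n A hn i (Or.inr (by omega))
  obtain ⟨e⟩ := GrothLib.DualRing.exists_hom_ring_equiv R i
  exact e.symm.toEquiv.subsingleton

end GrothLib.PointSky29
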