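import Groth.Agent.Lib.OX.QCohStalk
import Groth.Agent.Lib.OX.Exact
import Groth.Agent.Lib.OX.Tensor
import Groth.Agent.Lib.FinCov.FrameFree

/-!
# The skyscraper of the residue field at a closed point
-/

set_option autoImplicit false
set_option maxHeartbeats 400000
set_option linter.style.haveILetI false
set_option backward.isDefEq.respectTransparency false

universe u

open CategoryTheory CategoryTheory.Limits AlgebraicGeometry Opposite TopologicalSpace IsLocalRing

noncomputable section

namespace GrothLib.PointSky29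

variable {X : Scheme.{u}}

/-- The residue field as a module over the local ring. -/
abbrev kap (x : X) : ModuleCat.{u} (X.presheaf.stalk x) :=
  ModuleCat.of (X.presheaf.stalk x) (ResidueField (X.presheaf.stalk x))

theorem isField_stalk_field (K : CommRingCat.{u}) [IsLocalRing K] (hK : IsField K) :
    IsField ((Spec K).presheaf.stalk (closedPoint K)) := by
  exact MulEquiv.isField hK (stalkClosedPointIso K).commRingCatIsoToRingEquiv.toMulEquiv

/-- The stalk of the direct image of a point. -/
theorem nonempty_stalk_iso {K : CommRingCat.{u}} [IsLocalRing K] (hK : IsField K) (g : Spec K ⟶ X)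
    (hg : Function.Surjective (g.stalkMap (closedPoint K)).hom) :
    Nonempty ((OX.stalk (g (closedPoint K))).obj ((Scheme.Modules.pushforward g).obj (Coh.structureModule (Spec K))) ≅
      kap (g (closedPoint K))) := by
  let c := closedPoint K
  let O := Coh.structureModule (Spec K)
  let A := X.presheaf.stalk (g c)
  let ψ := (QCoh.pushStalkHom g c O).hom
  have hψ : Function.Bijective ψ := OX.pushStalkHom_bijective_local g O
  let one : (OX.stalk c).obj O := OX.germ (DCoh.toP.obj O) ⊤ (x := c) trivial (1 : Γ(Spec K, ⊤))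
  have hone : ∀ e : (OX.stalk c).obj O, ∃ r : (Spec K).presheaf.stalk c, r • one = e := fun e => by
    obtain ⟨U, hU, (m : Γ(Spec K, U)), rfl⟩ := OX.germ_exists (DCoh.toP.obj O) e
    refine ⟨(Spec K).presheaf.germ U c hU m, ?_⟩
    have h1 : one = OX.germ (DCoh.toP.obj O) U hU ((1 : Γ(Spec K, U))) := by
      refine (OX.germ_map (DCoh.toP.obj O) (homOfLE (le_top : U ≤ ⊤)) hU _).symm.trans ?_
      exact congrArg _ (map_one ((Spec K).presheaf.map (homOfLE (le_top : U ≤ ⊤)).op).hom)
    rw [h1]
    refine ((OX.germ_smul' (DCoh.toP.obj O) U hU m _).symm).trans ?_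
    exact congrArg (OX.germ (DCoh.toP.obj O) U hU) (mul_one (M := Γ(Spec K, U)) m)
  obtain ⟨n₀, hn₀⟩ := hψ.2 one
  let l : A →ₗ[A] ((OX.stalk (g c)).obj ((Scheme.Modules.pushforward g).obj O)) := LinearMap.toSpanSingleton A _ n₀
  have hψl : ∀ a : A, ψ (l a) = ((g.stalkMap c).hom a • one : (OX.stalk c).obj O) := fun a => by
    change ψ (a • n₀) = _
    rw [map_smul, hn₀]
    rfl
  have hl : Function.Surjective l := fun n => by
    obtain ⟨r, hr⟩ := hone (ψ n)
    obtain ⟨a, rfl⟩ := hg r
    exact ⟨a, hψ.1 ((hψl a).trans hr)⟩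
  have hker : LinearMap.ker l = maximalIdeal A := by
    refine le_antisymm (le_maximalIdeal ?_) fun a ha => ?_
    · intro htop
      have h1 : l 1 = 0 := LinearMap.mem_ker.1 (htop ▸ Submodule.mem_top)
      have h2 : one = 0 := by
        rw [← hn₀, show n₀ = l 1 from (one_smul A n₀).symm, h1, map_zero]
      obtain ⟨W, hW, i₁, i₂, h⟩ := TopCat.Presheaf.germ_eq O.presheaf c (U := ⊤) (V := ⊤) trivial trivial
        (1 : Γ(Spec K, ⊤)) (0 : Γ(Spec K, ⊤)) (h2.trans (map_zero _).symm)
      have h' : ((Spec K).presheaf.map i₁.op).hom 1 = ((Spec K).presheaf.map i₂.op).hom 0 := h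
      rw [map_one, map_zero] at h'
      have h3 := congrArg ((Spec K).presheaf.germ W c hW).hom h'
      rw [map_one, map_zero] at h3
      exact one_ne_zero h3
    · refine LinearMap.mem_ker.2 (hψ.1 ?_)
      rw [map_zero, hψl]
      have : (g.stalkMap c).hom a = 0 := by
        by_contra h
        obtain ⟨b, hb⟩ := (isField_stalk_field K hK).mul_inv_cancel h
        have hu : IsUnit ((g.stalkMap c).hom a) := IsUnit.of_mul_eq_one b hb
        exact (mem_maximalIdeal _).1 ha (isUnit_of_map_unit (g.stalkMap c).hom a hu)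
      rw [this]
      exact zero_smul _ one
  exact ⟨((l.quotKerEquivOfSurjective hl).symm.trans (Submodule.quotEquivOfEq _ _ hker)).toModuleIso⟩

theorem isZero_stalk_of_notMem_range {Z : Scheme.{u}} (g : Z ⟶ X) (hr : IsClosed (Set.range g))
    (N : Z.Modules) {y : X} (hy : y ∉ Set.range g) :
    IsZero ((OX.stalk y).obj ((Scheme.Modules.pushforward g).obj N)) := by
  haveI : Subsingleton (((Scheme.Modules.pushforward g).obj N).presheaf.stalk y) := by
    refine subsingleton_of_forall_eq 0 fun e => ?_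
    obtain ⟨V, hV, s, rfl⟩ := OX.germ_exists (DCoh.toP.obj ((Scheme.Modules.pushforward g).obj N)) e
    let W : X.Opens := V ⊓ ⟨(Set.range g)ᶜ, hr.isOpen_compl⟩
    have hW : g ⁻¹ᵁ W = ⊥ := Opens.ext (Set.eq_empty_of_forall_notMem fun z hz => hz.2 ⟨z, rfl⟩)
    rw [← OX.germ_map _ (homOfLE (inf_le_left : W ≤ V)) ⟨hV, hy⟩ s]
    haveI : Subsingleton Γ(N, g ⁻¹ᵁ W) := by
      rw [hW]
      exact AddCommGrpCat.subsingleton_of_isZero
        ((TopCat.Sheaf.isTerminalOfEmpty ⟨N.presheaf, N.isSheaf⟩).isZero)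
    exact (congrArg _ (Subsingleton.elim (α := Γ(N, g ⁻¹ᵁ W)) _ 0)).trans (map_zero _)
  exact ModuleCat.isZero_iff_subsingleton.2 (inferInstanceAs (Subsingleton (((Scheme.Modules.pushforward g).obj N).presheaf.stalk y)))

theorem isZero_stalk_sky {x y : X} (hx : IsClosed ({x} : Set X)) (hy : y ≠ x) (N : ModuleCat.{u} (X.presheaf.stalk x)) :
    IsZero ((OX.stalk y).obj ((OX.sky x).obj N)) := by
  refine ModuleCat.isZero_iff_subsingleton.2 (subsingleton_of_forall_eq 0 fun e => ?_)
  obtain ⟨V, hV, s, rfl⟩ := OX.germ_exists (OX.skyPreObj x N) e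
  let W : X.Opens := V ⊓ ⟨({x} : Set X)ᶜ, hx.isOpen_compl⟩
  have h0 : ((OX.skyPreObj x N).map (homOfLE (inf_le_left : W ≤ V)).op s : OX.SkySec x N (op W)) = 0 :=
    funext fun h => absurd rfl h.down.2
  rw [← OX.germ_map (OX.skyPreObj x N) (homOfLE (inf_le_left : W ≤ V)) ⟨hV, hy⟩ s]
  exact (congrArg _ h0).trans (map_zero _)

/-- A module supported at a closed point is a skyscraper. -/
theorem isIso_unit_sky {x : X} (hx : IsClosed ({x} : Set X)) (M : X.Modules)
    (h : ∀ y, y ≠ x → IsZero ((OX.stalk y).obj M)) : IsIso ((OX.stalkSkyAdj x).unit.app M) := by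
  rw [OX.isIso_iff]
  intro y
  rcases eq_or_ne y x with rfl | hy
  · haveI : IsIso ((OX.stalk y).map ((OX.stalkSkyAdj y).unit.app M) ≫ (OX.stalkSkyAdj y).counit.app ((OX.stalk y).obj M)) := by
      rw [(OX.stalkSkyAdj y).left_triangle_components M]
      exact inferInstanceAs (IsIso (𝟙 _))
    exact IsIso.of_isIso_comp_right _ ((OX.stalkSkyAdj y).counit.app ((OX.stalk y).obj M))
  · exact isIso_of_source_target_iso_zero _ (h y hy).isoZero (isZero_stalk_sky hx hy _).isoZero

/-- The point sheaf. -/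
theorem nonempty_point_iso {K : CommRingCat.{u}} [IsLocalRing K] (hK : IsField K) (g : Spec K ⟶ X)
    (hg : Function.Surjective (g.stalkMap (closedPoint K)).hom) (x : X) (hgx : g (closedPoint K) = x)
    (hx : IsClosed ({x} : Set X)) :
    Nonempty ((Scheme.Modules.pushforward g).obj (Coh.structureModule (Spec K)) ≅ (OX.sky x).obj (kap x)) := by
  subst hgx
  let _ := hK.toField
  have hr : Set.range g = {g (closedPoint K)} :=
    Set.eq_singleton_iff_unique_mem.2 ⟨⟨_, rfl⟩, by
      rintro _ ⟨z, rfl⟩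
      exact congrArg _ (Subsingleton.elim (α := PrimeSpectrum K) _ _)⟩
  haveI := isIso_unit_sky hx ((Scheme.Modules.pushforward g).obj (Coh.structureModule (Spec K))) fun y hy =>
    isZero_stalk_of_notMem_range g (hr ▸ hx) _ (by rw [hr]; exact hy)
  exact ⟨asIso ((OX.stalkSkyAdj (g (closedPoint K))).unit.app ((Scheme.Modules.pushforward g).obj (Coh.structureModule (Spec K)))) ≪≫
    (OX.sky _).mapIso (nonempty_stalk_iso hK g hg).some⟩

end GrothLib.PointSky29
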