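import Groth.Agent.Lib.PointSky29.Vanish
import Groth.Agent.Lib.PointSky29.Ring
import Groth.Agent.Lib.DerCat.FFAdj19
import Groth.Agent.Lib.OX.PullbackKFlat
import Groth.Agent.Lib.OX.RegularPerfect
import Groth.Agent.Lib.QCoh.Support
import Groth.Agent.Lib.QCoh.AvoidSub

/-!
# The derived stalk at a closed point and its skyscraper adjoint
-/

set_option autoImplicit false
set_option maxHeartbeats 800000
set_option linter.style.haveILetI false
set_option backward.isDefEq.respectTransparency false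

universe u

open CategoryTheory CategoryTheory.Limits AlgebraicGeometry Opposite TopologicalSpace IsLocalRing
open CategoryTheory.Pretriangulated DerivedCategory

noncomputable section

attribute [local instance] HasDerivedCategory.standard

namespace GrothLib.PointSky29

variable {X : Scheme.{u}} (x : X)

instance : PreservesFiniteLimits (OX.sky x) := KFlatStalk22.preservesFiniteLimits_sky x

/-- The derived stalk. -/
abbrev Ld : DCoh.D X ⥤ Dual.D (X.presheaf.stalk x) := (OX.stalk x).mapDerivedCategory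

/-- The derived skyscraper. -/
abbrev Rd : Dual.D (X.presheaf.stalk x) ⥤ DCoh.D X := (OX.sky x).mapDerivedCategory

/-- The adjunction. -/
def dAdj : Ld x ⊣ Rd x := GrothLib.DerCat.mapDerivedAdj (OX.stalkSkyAdj x)

theorem nonempty_HD_Ld_iso (K : DCoh.D X) (i : ℤ) :
    Nonempty ((homologyFunctor _ i).obj ((Ld x).obj K) ≅ (OX.stalk x).obj (DCoh.HD K i)) := by
  let E := DerivedCategory.Q.objPreimage K
  let e : DerivedCategory.Q.obj E ≅ K := DerivedCategory.Q.objObjPreimageIso K
  exact ⟨(homologyFunctor _ i).mapIso ((Ld x).mapIso e.symm) ≪≫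
    DerCat19.homologyMapDerivedIso (OX.stalk x) E i ≪≫
    (OX.stalk x).mapIso (((DerivedCategory.homologyFunctorFactors X.Modules i).app E).symm ≪≫
      (homologyFunctor X.Modules i).mapIso e)⟩

theorem isZero_HD_Ld_iff (K : DCoh.D X) (i : ℤ) :
    IsZero ((homologyFunctor _ i).obj ((Ld x).obj K)) ↔ x ∉ CohB1.support (DCoh.HD K i) := by
  obtain ⟨e⟩ := nonempty_HD_Ld_iso x K i
  rw [e.isZero_iff, ModuleCat.isZero_iff_subsingleton]
  simp only [CohB1.support, Set.mem_setOf_eq, not_not]
  exact Iff.rfl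

theorem isLE_Ld (K : DCoh.D X) (b : ℤ) [K.IsLE b] : ((Ld x).obj K).IsLE b := by
  rw [DerivedCategory.isLE_iff]
  intro i hi
  obtain ⟨e⟩ := nonempty_HD_Ld_iso x K i
  exact ((OX.stalk x).map_isZero (DerivedCategory.isZero_of_isLE K b i hi)).of_iso e

theorem isGE_Ld (K : DCoh.D X) (a : ℤ) [K.IsGE a] : ((Ld x).obj K).IsGE a := by
  rw [DerivedCategory.isGE_iff]
  intro i hi
  obtain ⟨e⟩ := nonempty_HD_Ld_iso x K i
  exact ((OX.stalk x).map_isZero (DerivedCategory.isZero_of_isGE K a i hi)).of_iso e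

theorem finite_HD_Ld [IsLocallyNoetherian X] (K : DCoh.D X) (hK : DCoh.IsCohD K) (i : ℤ) :
    Module.Finite (X.presheaf.stalk x) (Dual.HD (X.presheaf.stalk x) ((Ld x).obj K) i) := by
  obtain ⟨e⟩ := nonempty_HD_Ld_iso x K i
  haveI : Module.Finite (X.presheaf.stalk x) ((OX.stalk x).obj (DCoh.HD K i)) :=
    QCoh.stalk_finite _ (hK i) x
  exact Module.Finite.equiv e.symm.toLinearEquiv

/-- The value of the derived skyscraper on a module. -/
def RdSingleIso (N : ModuleCat.{u} (X.presheaf.stalk x)) (j : ℤ) :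
    (Rd x).obj (((DerivedCategory.singleFunctor (ModuleCat.{u} (X.presheaf.stalk x)) 0).obj N)⟦j⟧) ≅
      (DCoh.inD X ((OX.sky x).obj N))⟦j⟧ :=
  ((Rd x).commShiftIso j).app _ ≪≫
    (shiftFunctor _ j).mapIso (((OX.sky x).mapDerivedCategorySingleFunctor 0).app N)

theorem nonempty_Ld_sky_iso (N : ModuleCat.{u} (X.presheaf.stalk x)) :
    Nonempty ((Ld x).obj (DCoh.inD X ((OX.sky x).obj N)) ≅
      (DerivedCategory.singleFunctor (ModuleCat.{u} (X.presheaf.stalk x)) 0).obj N) := by
  haveI : IsIso ((OX.stalkSkyAdj x).counit.app N) :=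
    (ConcreteCategory.isIso_iff_bijective _).2 (KFlatStalk22.bijective_counit x N)
  exact ⟨((OX.stalk x).mapDerivedCategorySingleFunctor 0).app _ ≪≫
    (DerivedCategory.singleFunctor _ 0).mapIso (asIso ((OX.stalkSkyAdj x).counit.app N))⟩

theorem exists_nhd_of_forall_isZero [IsNoetherian X] (K : DCoh.D X) (hK : DCoh.IsCohD K) (a b : ℤ)
    [K.IsGE a] [K.IsLE b] (h : ∀ i, IsZero ((homologyFunctor _ i).obj ((Ld x).obj K))) :
    ∃ U : X.Opens, x ∈ U ∧ ∀ (i : ℤ) (y : X), y ∈ U → y ∉ CohB1.support (DCoh.HD K i) := by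
  classical
  have hW : ∀ i : ℤ, ∃ W : X.Opens, x ∈ W ∧ ∀ V ≤ W, Subsingleton Γ(DCoh.HD K i, V) := fun i =>
    QCoh.exists_nhd_of_notMem_support _ (hK i).2 ((isZero_HD_Ld_iff x K i).1 (h i))
  choose W hxW hW using hW
  refine ⟨⟨⋂ i ∈ Finset.Icc a b, (W i : Set X), ?_⟩, ?_, fun i y hy => ?_⟩
  · exact isOpen_biInter_finset fun i _ => (W i).2
  · exact Set.mem_iInter₂.2 fun i _ => hxW i
  · by_cases hi : i ∈ Finset.Icc a b
    · exact QCoh.notMem_support_of_forall_subsingleton _ (hW i) (Set.mem_iInter₂.1 hy i hi)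
    · have hz : IsZero (DCoh.HD K i) := by
        rw [Finset.mem_Icc] at hi
        rcases lt_or_ge i a with h' | h'
        · exact DerivedCategory.isZero_of_isGE K a i h'
        · exact DerivedCategory.isZero_of_isLE K b i (by omega)
      have := ModuleCat.isZero_iff_subsingleton.1 ((OX.stalk y).map_isZero hz)
      simp only [CohB1.support, Set.mem_setOf_eq, not_not]
      exact this

end GrothLib.PointSky29
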