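import Groth.Agent.Lib.PointSky29.Basic
import Groth.Agent.Lib.LCI6.LocusScheme
import Mathlib.AlgebraicGeometry.Noetherian

/-!
# Maps out of the point sheaf
-/

set_option autoImplicit false
set_option maxHeartbeats 400000
set_option linter.style.haveILetI false
set_option backward.isDefEq.respectTransparency false

universe u

open CategoryTheory CategoryTheory.Limits AlgebraicGeometry Opposite TopologicalSpace IsLocalRing

noncomputable section

namespace GrothLib.PointSky29

variable {X : Scheme.{u}}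

theorem germ_one_generates (y : X) (e : (OX.stalk y).obj (Coh.structureModule X)) :
    ∃ r : X.presheaf.stalk y,
      r • (OX.germ (DCoh.toP.obj (Coh.structureModule X)) ⊤ (x := y) trivial (1 : Γ(X, ⊤)) :
        (OX.stalk y).obj (Coh.structureModule X)) = e := by
  obtain ⟨U, hU, (m : Γ(X, U)), rfl⟩ := OX.germ_exists (DCoh.toP.obj (Coh.structureModule X)) e
  refine ⟨X.presheaf.germ U y hU m, ?_⟩
  have h1 : OX.germ (DCoh.toP.obj (Coh.structureModule X)) ⊤ (x := y) trivial (1 : Γ(X, ⊤)) =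
      OX.germ (DCoh.toP.obj (Coh.structureModule X)) U hU (1 : Γ(X, U)) :=
    (OX.germ_map (DCoh.toP.obj (Coh.structureModule X)) (homOfLE (le_top : U ≤ ⊤)) hU _).symm.trans
      (congrArg _ (map_one (X.presheaf.map (homOfLE (le_top : U ≤ ⊤)).op).hom))
  rw [h1]
  refine ((OX.germ_smul' (DCoh.toP.obj (Coh.structureModule X)) U hU m _).symm).trans ?_
  exact congrArg (OX.germ (DCoh.toP.obj (Coh.structureModule X)) U hU) (mul_one (M := Γ(X, U)) m)

theorem stalk_homOfSection (y : X) {N : X.Modules} (s : Γ(N, ⊤)) :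
    ((OX.stalk y).map (FinCov.homOfSection s)).hom
        (OX.germ (DCoh.toP.obj (Coh.structureModule X)) ⊤ (x := y) trivial (1 : Γ(X, ⊤))) =
      OX.germ (DCoh.toP.obj N) ⊤ (x := y) trivial s := by
  refine (OX.stalkPre_map_germ (DCoh.toP.map (FinCov.homOfSection s)) ⊤ trivial _).trans ?_
  refine congrArg (OX.germ (DCoh.toP.obj N) ⊤ _) ?_
  refine (FinCov.homOfSection_one s ⊤).trans ?_
  exact (ConcreteCategory.congr_hom (N.presheaf.map_id _) s)

theorem stalk_ext {y : X} {N : ModuleCat.{u} (X.presheaf.stalk y)} {f g : (OX.stalk y).obj (Coh.structureModule X) ⟶ N}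
    (h : f.hom (OX.germ (DCoh.toP.obj (Coh.structureModule X)) ⊤ (x := y) trivial (1 : Γ(X, ⊤))) =
      g.hom (OX.germ (DCoh.toP.obj (Coh.structureModule X)) ⊤ (x := y) trivial (1 : Γ(X, ⊤)))) : f = g := by
  refine ModuleCat.hom_ext (LinearMap.ext fun e => ?_)
  obtain ⟨r, rfl⟩ := germ_one_generates y e
  rw [map_smul, map_smul, h]

theorem counit_germ (x : X) (N : ModuleCat.{u} (X.presheaf.stalk x)) (U : X.Opens) (hx : x ∈ U)
    (m : OX.SkySec x N (op U)) :
    ((OX.stalkSkyAdj x).counit.app N).hom (OX.germ (OX.skyPreObj x N) U hx m) = m ⟨hx⟩ := by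
  have hc' : (OX.stalkSkyAdj x).counit.app N = (OX.stalkHomEquiv x (OX.skyPreObj x N) N).symm (𝟙 _) := by
    simp only [OX.stalkSkyAdj, OX.stalkSkyPreAdj, Adjunction.mkOfHomEquiv_counit_app, Adjunction.mkOfHomEquiv_homEquiv]
    rfl
  rw [hc']
  exact OX.stalkDesc_germ (𝟙 (OX.skyPreObj x N)) U hx m

variable [IsLocallyNoetherian X] {x : X} (hx : IsClosed ({x} : Set X))
include hx

/-- A germ killed by the maximal ideal extends by zero. -/
theorem exists_section (M : X.Modules) (e : (OX.stalk x).obj M)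
    (he : ∀ a ∈ maximalIdeal (X.presheaf.stalk x), a • e = 0) :
    ∃ t : Γ(M, ⊤), OX.germ (DCoh.toP.obj M) ⊤ (x := x) trivial t = e ∧
      ∀ y, y ≠ x → OX.germ (DCoh.toP.obj M) ⊤ (x := y) trivial t = 0 := by
  classical
  let P := DCoh.toP.obj M
  obtain ⟨U₀, hxU₀, s₀, hs₀⟩ := OX.germ_exists P e
  obtain ⟨_, ⟨(U : X.Opens), hU, rfl⟩, hxU, hUU₀⟩ :=
    X.isBasis_affineOpens.exists_subset_of_mem_open hxU₀ U₀.2
  let s : P.obj (op U) := P.map (homOfLE (show U ≤ U₀ from hUU₀)).op s₀
  have hs : OX.germ P U hxU s = e := (OX.germ_map P _ hxU s₀).trans hs₀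
  haveI : IsNoetherianRing Γ(X, U) := IsLocallyNoetherian.component_noetherian ⟨U, hU⟩
  obtain ⟨F, hF⟩ := IsNoetherian.noetherian (hU.primeIdealOf ⟨x, hxU⟩).asIdeal
  have hW : ∀ G : Finset Γ(X, U), (∀ a ∈ G, a ∈ (hU.primeIdealOf ⟨x, hxU⟩).asIdeal) →
      ∃ (W : X.Opens) (hWU : W ≤ U), x ∈ W ∧ ∀ a ∈ G, P.map (homOfLE hWU).op ((a : Γ(X, U)) • s) = 0 := by
    intro G
    induction G using Finset.induction with
    | empty => exact fun _ => ⟨U, le_rfl, hxU, fun a ha => absurd ha (Finset.notMem_empty a)⟩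
    | insert a G _ ih =>
      intro hG
      obtain ⟨W, hWU, hxW, hW⟩ := ih fun b hb => hG b (Finset.mem_insert_of_mem hb)
      have h0 : OX.germ P U hxU ((a : Γ(X, U)) • s) = 0 := by
        rw [OX.germ_smul', hs]
        refine he _ ?_
        intro hu
        exact (GrothLib.LCI6.mem_basicOpen_iff_notMem hU hxU a).1 ((X.mem_basicOpen a x hxU).2 hu)
          (hG a (Finset.mem_insert_self _ _))
      obtain ⟨V, hxV, i₁, i₂, h⟩ := TopCat.Presheaf.germ_eq M.presheaf x hxU hxU ((a : Γ(X, U)) • s)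
        (0 : Γ(M, U)) (h0.trans (map_zero _).symm)
      have h' : P.map i₁.op ((a : Γ(X, U)) • s) = 0 := h.trans (map_zero _)
      refine ⟨W ⊓ V, inf_le_left.trans hWU, ⟨hxW, hxV⟩, fun b hb => ?_⟩
      rcases Finset.mem_insert.1 hb with rfl | hb
      · have := congrArg (P.map (homOfLE (inf_le_right : W ⊓ V ≤ V)).op) h'
        rw [map_zero] at this
        exact (Cohom.map_map_apply M i₁ (homOfLE (inf_le_right : W ⊓ V ≤ V)) _).symm.trans this
      · have := congrArg (P.map (homOfLE (inf_le_left : W ⊓ V ≤ W)).op) (hW b hb)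
        rw [map_zero] at this
        exact (Cohom.map_map_apply M (homOfLE hWU) (homOfLE (inf_le_left : W ⊓ V ≤ W)) _).symm.trans this
  obtain ⟨W, hWU, hxW, hW⟩ := hW F fun a ha => hF ▸ Ideal.subset_span ha
  let C : X.Opens := ⟨({x} : Set X)ᶜ, hx.isOpen_compl⟩
  -- the section vanishes off the point
  have hoff : ∀ y ∈ W, ∀ hy : y ∈ U, y ≠ x → OX.germ P U hy s = 0 := by
    intro y hyW hy hne
    obtain ⟨a, haF, hay⟩ : ∃ a ∈ F, a ∉ (hU.primeIdealOf ⟨y, hy⟩).asIdeal := by
      by_contra h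
      push Not at h
      have hle : (hU.primeIdealOf ⟨x, hxU⟩).asIdeal ≤ (hU.primeIdealOf ⟨y, hy⟩).asIdeal :=
        hF ▸ Ideal.span_le.2 h
      have hsp : hU.primeIdealOf ⟨x, hxU⟩ ⤳ hU.primeIdealOf ⟨y, hy⟩ :=
        (PrimeSpectrum.le_iff_specializes _ _).1 hle
      have h2 : hU.fromSpec (hU.primeIdealOf ⟨x, hxU⟩) ⤳ hU.fromSpec (hU.primeIdealOf ⟨y, hy⟩) :=
        hsp.map hU.fromSpec.continuous
      rw [hU.fromSpec_primeIdealOf, hU.fromSpec_primeIdealOf] at h2
      exact hne (h2.mem_closed hx rfl)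
    have hu : IsUnit (X.presheaf.germ U y hy a) :=
      (X.mem_basicOpen a y hy).1 ((GrothLib.LCI6.mem_basicOpen_iff_notMem hU hy a).2 hay)
    have h0 : OX.germ P U hy ((a : Γ(X, U)) • s) = 0 := by
      rw [← OX.germ_map P (homOfLE hWU) hyW, hW a haF, map_zero]
    rw [OX.germ_smul'] at h0
    exact hu.smul_eq_zero.1 h0
  have hcompat : P.map (homOfLE (inf_le_left.trans hWU : W ⊓ C ≤ U)).op s = (0 : Γ(M, W ⊓ C)) :=
    OX.section_eq_zero (M := M) (U := W ⊓ C) _ fun y hy =>
      (OX.germ_map P _ hy s).trans (hoff y hy.1 (hWU hy.1) hy.2)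
  let cov : ULift.{u} Bool → X.Opens := fun b => if b.down then W else C
  have hcov : (⊤ : X.Opens) ≤ iSup cov := fun y _ => Opens.mem_iSup.2 (by
    rcases eq_or_ne y x with rfl | hy
    · exact ⟨⟨true⟩, hxW⟩
    · exact ⟨⟨false⟩, hy⟩)
  let sf : ∀ b, Γ(M, cov b) := fun b => match b with
    | ⟨true⟩ => P.map (homOfLE hWU).op s
    | ⟨false⟩ => (0 : Γ(M, C))
  have hsf : TopCat.Presheaf.IsCompatible M.presheaf cov sf := by
    rintro ⟨i⟩ ⟨j⟩
    cases i <;> cases j
    · rfl
    · refine (map_zero _).trans (Eq.symm ?_)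
      refine (Cohom.map_map_apply M (homOfLE hWU) (Opens.infLERight C W) s).trans ?_
      exact OX.section_eq_zero (M := M) _ fun y hy =>
        (OX.germ_map P _ hy s).trans (hoff y hy.2 (hWU hy.2) hy.1)
    · refine Eq.trans ?_ (map_zero _).symm
      refine (Cohom.map_map_apply M (homOfLE hWU) (Opens.infLELeft W C) s).trans ?_
      exact hcompat
    · rfl
  obtain ⟨t, ht, -⟩ := TopCat.Sheaf.existsUnique_gluing' ⟨M.presheaf, M.isSheaf⟩ cov ⊤
    (fun b => homOfLE le_top) hcov sf hsf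
  refine ⟨t, ?_, fun y hy => ?_⟩
  · refine (OX.germ_map P (homOfLE (le_top : W ≤ ⊤)) hxW t).symm.trans ?_
    refine (congrArg (OX.germ P W hxW) (ht ⟨true⟩)).trans ?_
    exact (OX.germ_map P _ hxW s).trans hs
  · refine (OX.germ_map P (homOfLE (le_top : C ≤ ⊤)) hy t).symm.trans ?_
    exact (congrArg (OX.germ P C hy) (ht ⟨false⟩)).trans (map_zero _)

/-- Maps from the point sheaf are the maps from the residue field to the stalk. -/
theorem exists_lift (M : X.Modules) (ψ : kap x ⟶ (OX.stalk x).obj M) :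
    ∃ f : (OX.sky x).obj (kap x) ⟶ M, (OX.stalk x).map f = (OX.stalkSkyAdj x).counit.app (kap x) ≫ ψ := by
  let S := (OX.sky x).obj (kap x)
  let one : kap x := IsLocalRing.residue (X.presheaf.stalk x) 1
  let t' : Γ(S, ⊤) := (fun _ => one : OX.SkySec x (kap x) (op ⊤))
  let π : Coh.structureModule X ⟶ S := FinCov.homOfSection t'
  let u₀ := OX.germ (DCoh.toP.obj (Coh.structureModule X)) ⊤ (x := x) trivial (1 : Γ(X, ⊤))
  have hπ : ((OX.stalkSkyAdj x).counit.app (kap x)).hom (((OX.stalk x).map π).hom u₀) = one := by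
    rw [stalk_homOfSection]
    exact counit_germ x (kap x) ⊤ trivial _
  have hgen : ∀ k : kap x, ∃ r : X.presheaf.stalk x, r • one = k := fun k => by
    obtain ⟨r, rfl⟩ := IsLocalRing.residue_surjective k
    exact ⟨r, (Algebra.smul_def r _).trans (by simp [one])⟩
  haveI : Epi π := by
    rw [OX.epi_iff]
    intro y
    rcases eq_or_ne y x with rfl | hy
    · refine (ModuleCat.epi_iff_surjective _).2 fun e => ?_
      obtain ⟨r, hr⟩ := hgen (((OX.stalkSkyAdj y).counit.app (kap y)).hom e)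
      refine ⟨r • u₀, (ConcreteCategory.bijective_of_isIso ((OX.stalkSkyAdj y).counit.app (kap y))).1 ?_⟩
      refine Eq.trans ?_ hr
      change ((OX.stalkSkyAdj y).counit.app (kap y)).hom (((OX.stalk y).map π).hom (r • u₀)) = _
      rw [map_smul, map_smul, hπ]
    · exact (isZero_stalk_sky hx hy (kap x)).epi _
  obtain ⟨t, htx, hty⟩ := exists_section hx M (ψ.hom one) fun a ha => by
    rw [← map_smul, show a • one = 0 from (Algebra.smul_def a one).trans (by
      simp [one]; exact ha), map_zero]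
  let h : Coh.structureModule X ⟶ M := FinCov.homOfSection t
  have key : (OX.stalk x).map h = (OX.stalk x).map π ≫ (OX.stalkSkyAdj x).counit.app (kap x) ≫ ψ :=
    stalk_ext ((stalk_homOfSection x t).trans (htx.trans (congrArg ψ.hom hπ).symm))
  have hker : kernel.ι π ≫ h = 0 := by
    rw [OX.eq_zero_iff]
    intro y
    rcases eq_or_ne y x with rfl | hy
    · rw [Functor.map_comp, key, ← Category.assoc, ← Functor.map_comp, kernel.condition, Functor.map_zero,
        zero_comp]
    · rw [Functor.map_comp, show (OX.stalk y).map h = 0 from stalk_ext ((stalk_homOfSection y t).trans (hty y hy)),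
        comp_zero]
  refine ⟨Abelian.epiDesc π h hker, ?_⟩
  rw [← cancel_epi ((OX.stalk x).map π), ← Functor.map_comp, Abelian.comp_epiDesc, key]

end GrothLib.PointSky29
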