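import Groth.Agent.Lib.PointSky29.Derived

/-!
# Maps between a complex and a point sheaf
-/

set_option autoImplicit false
set_option maxHeartbeats 800000
set_option linter.style.haveILetI false
set_option backward.isDefEq.respectTransparency false

universe u

open CategoryTheory CategoryTheory.Limits AlgebraicGeometry Opposite TopologicalSpace IsLocalRing
open CategoryTheory.Pretriangulated DerivedCategory

noncomputable section

attribute [local instance] HasDerivedCategory.standard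

namespace GrothLib.PointSky29

variable {X : Scheme.{u}} (x : X)

/-- The point sheaf `O_x`. -/
abbrev pointSheaf : X.Modules := (Coh.push (X.fromSpecResidueField x)).obj (Coh.structureModule _)

theorem nonempty_pointSheaf_iso (hx : IsClosed ({x} : Set X)) :
    Nonempty (pointSheaf x ≅ (OX.sky x).obj (kap x)) :=
  nonempty_point_iso (Field.toIsField _) (X.fromSpecResidueField x)
    ((X.fromSpecResidueField x).stalkMap_surjective _) x (X.fromSpecResidueField_apply x _) hx

theorem isLE_Rd (M : Dual.D (X.presheaf.stalk x)) (b : ℤ) [M.IsLE b] : ((Rd x).obj M).IsLE b := by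
  rw [DerivedCategory.isLE_iff]
  intro i hi
  let E := DerivedCategory.Q.objPreimage M
  let e : DerivedCategory.Q.obj E ≅ M := DerivedCategory.Q.objObjPreimageIso M
  exact ((OX.sky x).map_isZero (((DerivedCategory.isZero_of_isLE M b i hi)).of_iso
      (((DerivedCategory.homologyFunctorFactors _ i).app E).symm ≪≫ (homologyFunctor _ i).mapIso e))).of_iso
    ((homologyFunctor _ i).mapIso ((Rd x).mapIso e.symm) ≪≫ DerCat19.homologyMapDerivedIso (OX.sky x) E i)

theorem isGE_Rd (M : Dual.D (X.presheaf.stalk x)) (a : ℤ) [M.IsGE a] : ((Rd x).obj M).IsGE a := by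
  rw [DerivedCategory.isGE_iff]
  intro i hi
  let E := DerivedCategory.Q.objPreimage M
  let e : DerivedCategory.Q.obj E ≅ M := DerivedCategory.Q.objObjPreimageIso M
  exact ((OX.sky x).map_isZero (((DerivedCategory.isZero_of_isGE M a i hi)).of_iso
      (((DerivedCategory.homologyFunctorFactors _ i).app E).symm ≪≫ (homologyFunctor _ i).mapIso e))).of_iso
    ((homologyFunctor _ i).mapIso ((Rd x).mapIso e.symm) ≪≫ DerCat19.homologyMapDerivedIso (OX.sky x) E i)

/-- Maps into the point sheaf. -/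
def homPointEquiv (hx : IsClosed ({x} : Set X)) (K : DCoh.D X) (j : ℤ) :
    (K ⟶ (DCoh.inD X (pointSheaf x))⟦j⟧) ≃
      ((Ld x).obj K ⟶ (Dual.inD (X.presheaf.stalk x) (ResidueField (X.presheaf.stalk x)))⟦j⟧) :=
  (Iso.homCongr (Iso.refl K) ((shiftFunctor (DCoh.D X) j).mapIso
      ((DerivedCategory.singleFunctor X.Modules 0).mapIso (nonempty_pointSheaf_iso x hx).some) ≪≫
    (RdSingleIso x (kap x) j).symm)).trans ((dAdj x).homEquiv _ _).symm

theorem vanish_above_iff [IsNoetherian X] (hx : IsClosed ({x} : Set X)) (K : DCoh.D X) (hK : DCoh.IsCohD K)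
    (c : ℤ) [K.IsLE c] (b : ℤ) :
    (∀ i : ℤ, b < i → x ∉ CohB1.support (DCoh.HD K i)) ↔
      ∀ i : ℤ, b < i → ∀ φ : K ⟶ (shiftFunctor (DCoh.D X) (-i)).obj (DCoh.inD X (pointSheaf x)), φ = 0 := by
  haveI := isLE_Ld x K c
  have key := isLE_iff_residue ((Ld x).obj K) (finite_HD_Ld x K hK) c b
  refine ⟨fun h i hi φ => ?_, fun h i hi => (isZero_HD_Ld_iff x K i).1 (key.2 (fun i hi => ?_) i hi)⟩
  · haveI := key.1 (fun i hi => (isZero_HD_Ld_iff x K i).2 (h i hi)) i hi
    exact (homPointEquiv x hx K (-i)).injective (Subsingleton.elim _ _)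
  · exact ⟨fun φ ψ => (homPointEquiv x hx K (-i)).symm.injective ((h i hi _).trans (h i hi _).symm)⟩

theorem zero_near_of_right_orthogonal [IsNoetherian X] (hx : IsClosed ({x} : Set X)) (K : DCoh.D X)
    (hK : DCoh.IsCohD K) (a b : ℤ) [K.IsGE a] [K.IsLE b]
    (h : ∀ (i : ℤ) (φ : K ⟶ (shiftFunctor (DCoh.D X) i).obj (DCoh.inD X (pointSheaf x))), φ = 0) :
    ∃ U : X.Opens, x ∈ U ∧ ∀ (i : ℤ) (y : X), y ∈ U → y ∉ CohB1.support (DCoh.HD K i) := by
  refine exists_nhd_of_forall_isZero x K hK a b fun i => ?_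
  rw [isZero_HD_Ld_iff]
  exact (vanish_above_iff x hx K hK b (i - 1)).2 (fun j _ φ => h (-j) φ) i (by omega)

theorem zero_near_of_left_orthogonal [IsNoetherian X] (hx : IsClosed ({x} : Set X)) (K : DCoh.D X)
    (hK : DCoh.IsCohD K) (a b : ℤ) [K.IsGE a] [K.IsLE b]
    (h : ∀ (i : ℤ) (φ : DCoh.inD X (pointSheaf x) ⟶ (shiftFunctor (DCoh.D X) i).obj K), φ = 0) :
    ∃ U : X.Opens, x ∈ U ∧ ∀ (i : ℤ) (y : X), y ∈ U → y ∉ CohB1.support (DCoh.HD K i) := by
  haveI := isLE_Ld x K b
  haveI := isGE_Ld x K a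
  refine exists_nhd_of_forall_isZero x K hK a b
    (isZero_of_hom_residue ((Ld x).obj K) (finite_HD_Ld x K hK) a fun i => ?_)
  obtain ⟨C, p, q, hT⟩ := distinguished_cocone_triangle ((dAdj x).unit.app K)
  let T := Triangle.mk ((dAdj x).unit.app K) p q
  haveI : IsIso (OX.stalkSkyAdj x).counit := by
    haveI : ∀ N, IsIso ((OX.stalkSkyAdj x).counit.app N) := fun N =>
      (ConcreteCategory.isIso_iff_bijective _).2 (KFlatStalk22.bijective_counit x N)
    exact NatIso.isIso_of_isIso_app _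
  haveI : IsIso (dAdj x).counit :=
    (dAdj x).isIso_counit_of_iso (DerCat19.mapDerivedCompIdIso (OX.sky x) (OX.stalk x) (asIso (OX.stalkSkyAdj x).counit))
  haveI : IsIso ((Ld x).map ((dAdj x).unit.app K)) := by
    haveI : IsIso ((Ld x).map ((dAdj x).unit.app K) ≫ (dAdj x).counit.app ((Ld x).obj K)) := by
      rw [(dAdj x).left_triangle_components K]
      exact inferInstanceAs (IsIso (𝟙 _))
    exact IsIso.of_isIso_comp_right _ ((dAdj x).counit.app ((Ld x).obj K))
  have hC0 : IsZero ((Ld x).obj C) :=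
    Triangle.isZero₃_of_isIso₁ ((Ld x).mapTriangle.obj T) ((Ld x).map_distinguished T hT)
      (inferInstanceAs (IsIso ((Ld x).map ((dAdj x).unit.app K))))
  have hC : ∀ j, IsZero ((OX.stalk x).obj (DCoh.HD C j)) := fun j => by
    obtain ⟨e⟩ := nonempty_HD_Ld_iso x C j
    exact ((homologyFunctor _ j).map_isZero hC0).of_iso e.symm
  haveI hle : C.IsLE b := by
    haveI := isLE_Rd x ((Ld x).obj K) b
    refine TStructure.t.isLE₂ T.rotate (rot_of_distTriang T hT) b
      (inferInstanceAs (DerivedCategory.IsLE ((Rd x).obj ((Ld x).obj K)) b)) ?_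
    haveI : TStructure.t.IsLE (K⟦(1 : ℤ)⟧) (b - 1) :=
      TStructure.t.isLE_shift K b 1 (b - 1) (by omega)
    exact TStructure.t.isLE_of_le (K⟦(1 : ℤ)⟧) (b - 1) b (by omega)
  haveI hge : C.IsGE (a - 1) := by
    haveI := isGE_Rd x ((Ld x).obj K) a
    refine TStructure.t.isGE₂ T.rotate (rot_of_distTriang T hT) (a - 1)
      (TStructure.t.isGE_of_ge ((Rd x).obj ((Ld x).obj K)) (a - 1) a (by omega)) ?_
    exact TStructure.t.isGE_shift K a 1 (a - 1) (by omega)
  obtain ⟨e⟩ := nonempty_Ld_sky_iso x (kap x)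
  have hS := (nonempty_pointSheaf_iso x hx).some
  refine subsingleton_of_forall_eq 0 fun χ => ?_
  let φ := (dAdj x).homEquiv (DCoh.inD X ((OX.sky x).obj (kap x))) (((Ld x).obj K)⟦i⟧) (e.hom ≫ χ) ≫
    ((Rd x).commShiftIso i).hom.app ((Ld x).obj K)
  obtain ⟨ψ, hψ⟩ := Triangle.coyoneda_exact₂ _ (Triangle.shift_distinguished T hT i) φ
    ((hom_eq_zero hx C (a - 1) b hC i _).trans rfl)
  have hψ0 : ψ = 0 := by
    rw [← cancel_epi ((DerivedCategory.singleFunctor X.Modules 0).map hS.hom), comp_zero]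
    exact h i _
  have hφ : φ = 0 := by
    rw [hψ, hψ0]
    exact zero_comp
  have h1 : (dAdj x).homEquiv (DCoh.inD X ((OX.sky x).obj (kap x))) (((Ld x).obj K)⟦i⟧) (e.hom ≫ χ) = 0 := by
    rw [← cancel_mono (((Rd x).commShiftIso i).hom.app ((Ld x).obj K)), zero_comp]
    exact hφ
  rw [← cancel_epi e.hom, comp_zero, ← ((dAdj x).homEquiv _ _).symm_apply_apply (e.hom ≫ χ), h1,
    Adjunction.homEquiv_counit, Functor.map_zero, zero_comp]

end GrothLib.PointSky29
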