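import Groth.Agent.Lib.PointSky29.Lift
import Groth.Agent.Lib.InjSky20.Stalk
import Groth.Agent.Lib.InjSky20.Basic
import Groth.Agent.Lib.KFlatStalk22.Basic
import Groth.Agent.Lib.DerCat.HomologyDevissage
import Groth.Agent.Lib.DerCat.MapAdj

/-!
# Maps from the point sheaf into objects with vanishing stalk
-/

set_option autoImplicit false
set_option maxHeartbeats 800000
set_option linter.style.haveILetI false
set_option backward.isDefEq.respectTransparency false

universe u

open CategoryTheory CategoryTheory.Limits AlgebraicGeometry Opposite TopologicalSpace IsLocalRing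
open CategoryTheory.Pretriangulated

noncomputable section

attribute [local instance] HasDerivedCategory.standard

namespace GrothLib.PointSky29

variable {X : Scheme.{u}} [IsLocallyNoetherian X] {x : X}

theorem subsingleton_ext (hx : IsClosed ({x} : Set X)) [HasExt.{u + 1} X.Modules] :
    ∀ (n : ℕ) (M : X.Modules), IsZero ((OX.stalk x).obj M) →
      Subsingleton (Abelian.Ext.{u + 1} ((OX.sky x).obj (kap x)) M n) := by
  intro n
  induction n with
  | zero =>
    intro M hM
    refine subsingleton_of_forall_eq 0 fun e => ?_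
    refine Abelian.Ext.homEquiv₀.injective ((OX.eq_zero_iff _).2 ?_ |>.trans (map_zero (Abelian.Ext.addEquiv₀)).symm)
    intro y
    rcases eq_or_ne y x with rfl | hy
    · exact hM.eq_of_tgt _ _
    · exact (isZero_stalk_sky hx hy _).eq_of_src _ _
  | succ n ih =>
    intro M hM
    haveI : EnoughInjectives X.Modules := SheafCoh.enoughInjectives_sheafOfModules X.ringCatSheaf
    let I := Injective.under M
    let η := (OX.stalkSkyAdj x).unit.app I
    haveI hηx : IsIso ((OX.stalk x).map η) := by
      haveI : IsIso ((OX.stalk x).map η ≫ (OX.stalkSkyAdj x).counit.app ((OX.stalk x).obj I)) := by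
        rw [(OX.stalkSkyAdj x).left_triangle_components I]
        exact inferInstanceAs (IsIso (𝟙 _))
      exact IsIso.of_isIso_comp_right _ ((OX.stalkSkyAdj x).counit.app ((OX.stalk x).obj I))
    haveI : Epi η := by
      rw [OX.epi_iff]
      intro y
      rcases eq_or_ne y x with rfl | hy
      · infer_instance
      · exact (isZero_stalk_sky hx hy _).epi _
    let S₁ := ShortComplex.mk (kernel.ι η) η (kernel.condition η)
    have hS₁ : S₁.ShortExact :=
      { exact := ShortComplex.exact_of_f_is_kernel _ (kernelIsKernel η) }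
    have hI' : IsZero ((OX.stalk x).obj (kernel η)) := by
      have h0 : (OX.stalk x).map (kernel.ι η) = 0 := by
        rw [← cancel_mono ((OX.stalk x).map η), zero_comp, ← Functor.map_comp, kernel.condition, Functor.map_zero]
      rw [IsZero.iff_id_eq_zero, ← cancel_mono ((OX.stalk x).map (kernel.ι η)), Category.id_comp, zero_comp, h0]
    have hlift : Injective.ι M ≫ η = 0 := by
      refine ((OX.stalkSkyAdj x).unit.naturality (Injective.ι M)).trans ?_
      change (OX.stalkSkyAdj x).unit.app M ≫ (OX.sky x).map ((OX.stalk x).map (Injective.ι M)) = 0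
      rw [hM.eq_of_src ((OX.stalk x).map (Injective.ι M)) 0, Functor.map_zero, comp_zero]
    let i := kernel.lift η (Injective.ι M) hlift
    haveI : Mono i := mono_of_mono_fac (kernel.lift_ι η (Injective.ι M) hlift)
    let S₂ := ShortComplex.mk i (cokernel.π i) (cokernel.condition i)
    have hS₂ : S₂.ShortExact := { exact := ShortComplex.exact_cokernel i }
    have hC : IsZero ((OX.stalk x).obj (cokernel i)) := by
      have : Epi ((OX.stalk x).map (cokernel.π i)) := inferInstance
      rw [IsZero.iff_id_eq_zero, ← cancel_epi ((OX.stalk x).map (cokernel.π i))]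
      exact hI'.eq_of_src _ _
    haveI : Injective ((OX.stalk x).obj I) := InjSky20.injective_stalk I x
    haveI : Injective S₁.X₃ := InjSky20.injective_sky x _
    have hE : Subsingleton (Abelian.Ext.{u + 1} ((OX.sky x).obj (kap x)) S₁.X₁ (n + 1)) := by
      refine subsingleton_of_forall_eq 0 fun e => ?_
      obtain ⟨g, hg⟩ := Abelian.Ext.covariant_sequence_exact₁ _ hS₁ e
        (Abelian.Ext.eq_zero_of_injective (I := I) _) (rfl : n + 1 = n + 1)
      subst hg
      cases n with
      | zero =>
        obtain ⟨f, rfl⟩ := (Abelian.Ext.mk₀_bijective _ _).2 g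
        obtain ⟨f', hf'⟩ := exists_lift hx I
          (inv ((OX.stalkSkyAdj x).counit.app (kap x)) ≫ ((OX.stalkSkyAdj x).homEquiv _ _).symm f)
        have hf : f' ≫ η = f := by
          apply ((OX.stalkSkyAdj x).homEquiv _ _).symm.injective
          rw [Adjunction.homEquiv_counit, Functor.map_comp, Category.assoc,
            (OX.stalkSkyAdj x).left_triangle_components I, hf', Category.comp_id, IsIso.hom_inv_id_assoc]
        rw [← hf, ← Abelian.Ext.mk₀_comp_mk₀, Abelian.Ext.comp_assoc_of_second_deg_zero]
        rw [show (Abelian.Ext.mk₀ η).comp hS₁.extClass (zero_add 1) = 0 from hS₁.comp_extClass,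
          Abelian.Ext.comp_zero]
      | succ m => rw [Abelian.Ext.eq_zero_of_injective g, Abelian.Ext.zero_comp]
    refine subsingleton_of_forall_eq 0 fun e => ?_
    obtain ⟨g, hg⟩ := Abelian.Ext.covariant_sequence_exact₁ _ hS₂ e
      (Subsingleton.elim (h := hE) _ _) (rfl : n + 1 = n + 1)
    subst hg
    rw [Subsingleton.elim (h := ih _ hC) g 0, Abelian.Ext.zero_comp]

/-- Maps from the point sheaf into bounded objects with vanishing stalk. -/
theorem hom_eq_zero (hx : IsClosed ({x} : Set X)) (Y : DCoh.D X) (a b : ℤ) [Y.IsGE a] [Y.IsLE b]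
    (h : ∀ i, IsZero ((OX.stalk x).obj (DCoh.HD Y i))) :
    ∀ (i : ℤ) (φ : DCoh.inD X ((OX.sky x).obj (kap x)) ⟶ Y⟦i⟧), φ = 0 := by
  refine DerTrunc.prop_of_homology_zero
    (fun Y => ∀ (i : ℤ) (φ : DCoh.inD X ((OX.sky x).obj (kap x)) ⟶ Y⟦i⟧), φ = 0)
    (fun {A B} e hA i φ => ?_) (fun A hA i φ => ((shiftFunctor _ i).map_isZero hA).eq_of_tgt _ _)
    (fun A n hA i φ => ?_) (fun T hT h₁ h₃ i φ => ?_) (b + 1 - a).toNat Y a inferInstance
    (DerivedCategory.TStructure.t.isLE_of_le Y b _ (by omega)) fun j i φ => ?_
  · rw [← cancel_mono ((shiftFunctor _ i).map e.inv), zero_comp]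
    exact hA i _
  · rw [← cancel_mono ((shiftFunctorAdd' (DCoh.D X) n i (n + i) rfl).inv.app A), zero_comp]
    exact hA (n + i) _
  · obtain ⟨ψ, hψ⟩ := Triangle.coyoneda_exact₂ _ (Triangle.shift_distinguished T hT i) φ
      ((h₃ i _).trans rfl)
    rw [hψ, h₁ i ψ]
    exact zero_comp
  · rcases lt_or_ge i 0 with hi | hi
    · haveI h1 : DerivedCategory.TStructure.t.IsLE (DCoh.inD X ((OX.sky x).obj (kap x))) 0 :=
        inferInstanceAs ((DCoh.inD X ((OX.sky x).obj (kap x))).IsLE 0)
      haveI : DerivedCategory.TStructure.t.IsGE ((DerivedCategory.singleFunctor X.Modules 0).obj (DCoh.HD Y j)) 0 :=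
        inferInstanceAs (DerivedCategory.IsGE _ 0)
      exact DerivedCategory.TStructure.t.zero_of_isLE_of_isGE φ 0 (-i) (by omega) h1
        (DerivedCategory.TStructure.t.isGE_shift _ 0 i (-i) (by omega))
    · haveI := HasExt.standard X.Modules
      obtain ⟨k, rfl⟩ := Int.eq_ofNat_of_zero_le hi
      exact (Abelian.Ext.homEquiv (X := (OX.sky x).obj (kap x)) (Y := DCoh.HD Y j) (n := k)).symm.injective
        (Subsingleton.elim (h := subsingleton_ext hx k _ (h j)) _ _)

end GrothLib.PointSky29
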